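import Cfsg.Prelude.Def_Classical
set_option linter.all false

/-!
# Elements of order 15 in `U₅(2)` and `U₆(2)` (helper23, for S5527)
-/

set_option autoImplicit false

namespace Cfsg.Agent.BX.M11

open Cfsg Matrix

/-- a model of the field with four elements -/
abbrev R4 : Type := QuadraticAlgebra (ZMod 2) 1 1

section

variable {F : Type} [Field F]

theorem two_eq [Fintype F] (hF : Fintype.card F = 2 ^ 2) : (2 : F) = 0 := by
  have h := FiniteField.cast_card_eq_zero F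
  rw [hF] at h
  have h2 : (2 : F) ^ 2 = 0 := by exact_mod_cast h
  exact pow_eq_zero_iff (by norm_num) |>.1 h2

theorem charP [Fintype F] (hF : Fintype.card F = 2 ^ 2) : CharP F 2 :=
  (CharP.charP_iff_prime_eq_zero Nat.prime_two).2 (by exact_mod_cast two_eq hF)

theorem exists_omega [Fintype F] (hF : Fintype.card F = 2 ^ 2) : ∃ w : F, w ^ 3 = 1 ∧ w ≠ 1 := by
  classical
  have h1 : ¬ (Finset.univ : Finset F) ⊆ {0, 1} := fun h => by
    have h2 := Finset.card_le_card h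
    have h3 : ({0, 1} : Finset F).card ≤ 2 := Finset.card_le_two
    rw [Finset.card_univ, hF] at h2
    omega
  obtain ⟨w, -, hw⟩ := Finset.not_subset.1 h1
  rw [Finset.mem_insert, Finset.mem_singleton, not_or] at hw
  refine ⟨w, ?_, hw.2⟩
  have h2 := FiniteField.pow_card_sub_one_eq_one w hw.1
  rwa [hF] at h2

theorem unit_R4 : ∀ a b : ZMod 2, (⟨a, b⟩ : R4) ≠ 0 → (⟨a, b⟩ : R4) * ⟨a, b⟩ * ⟨a, b⟩ = 1 := by decide

theorem exists_hom [Fintype F] (hF : Fintype.card F = 2 ^ 2) : ∃ φ : R4 →+* F, Function.Injective φ := by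
  haveI := charP hF
  letI : Algebra (ZMod 2) F := ZMod.algebra F 2
  obtain ⟨w, hw, hw1⟩ := exists_omega hF
  have h1 : w * w = (1 : ZMod 2) • (1 : F) + (1 : ZMod 2) • w := by
    rw [one_smul, one_smul]
    have h2 : (w - 1) * (w * w + w + 1) = 0 := by linear_combination hw
    have h3 := (mul_eq_zero.1 h2).resolve_left (sub_ne_zero.2 hw1)
    linear_combination h3 - (w + 1) * two_eq hF
  let φ : R4 →+* F := (QuadraticAlgebra.lift ⟨w, h1⟩ : R4 →ₐ[ZMod 2] F).toRingHom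
  refine ⟨φ, (injective_iff_map_eq_zero φ).2 fun z hz => ?_⟩
  by_contra h0
  have h2 := congrArg φ (unit_R4 z.re z.im h0)
  rw [map_mul, map_mul, map_one] at h2
  have h3 : φ ⟨z.re, z.im⟩ = 0 := hz
  rw [h3, mul_zero] at h2
  exact zero_ne_one h2

variable {n : ℕ} [CharP F 2] (φ : R4 →+* F)

theorem herm_map (A : Matrix (Fin n) (Fin n) R4) (h : Aᵀ * A.map (fun z => z * z) = 1) (u v : Fin n → F) :
    hermForm n F 2 (A.map φ *ᵥ u) (A.map φ *ᵥ v) = hermForm n F 2 u v := by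
  haveI : Fact (Nat.Prime 2) := ⟨Nat.prime_two⟩
  have e : ∀ a b : Fin n → F, hermForm n F 2 a b = a ⬝ᵥ (frobenius F 2 ∘ b) := fun a b => rfl
  have h1 : frobenius F 2 ∘ (A.map φ *ᵥ v) = (A.map fun z => z * z).map φ *ᵥ (frobenius F 2 ∘ v) := by
    funext i
    have h2 := RingHom.map_mulVec (frobenius F 2) (A.map φ) v i
    have h3 : (A.map φ).map (frobenius F 2) = (A.map fun z => z * z).map φ := by
      ext i j
      show φ (A i j) ^ 2 = φ (A i j * A i j)
      rw [map_mul, pow_two]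
    rw [h3] at h2
    exact h2
  rw [e, e, h1, Matrix.dotProduct_mulVec, Matrix.vecMul_mulVec, ← Matrix.transpose_map, ← Matrix.map_mul, h,
    Matrix.map_one _ (map_zero φ) (map_one φ), Matrix.vecMul_one]

/-- the unitary matrices of determinant one over the model -/
def Un (A : Matrix (Fin n) (Fin n) R4) : Prop := Aᵀ * A.map (fun z => z * z) = 1 ∧ A.det = 1

/-- the element of `SU` given by a matrix over the model -/
def su (A : Matrix (Fin n) (Fin n) R4) (h : Un A) : ↥(SU n F 2) :=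
  ⟨⟨A.map φ, by
    have h3 := RingHom.map_det φ A
    rw [h.2, map_one] at h3
    exact h3.symm⟩, fun u v => herm_map φ A h.1 u v⟩

/-- the matrix of an element -/
def mt : ↥(SU n F 2) →* Matrix (Fin n) (Fin n) F := (slToMat n F).comp (SU n F 2).subtype

theorem mt_inj : Function.Injective (mt : ↥(SU n F 2) →* Matrix (Fin n) (Fin n) F) := fun _ _ h =>
  Subtype.ext (Subtype.ext h)

theorem mt_su (A : Matrix (Fin n) (Fin n) R4) (h : Un A) : mt (su φ A h) = φ.mapMatrix A := rfl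

theorem not_central (hφ : Function.Injective φ) {A D : Matrix (Fin n) (Fin n) R4} (hA : Un A) (hD : Un D)
    (h : D * A ≠ A * D) : su φ A hA ∉ Subgroup.center ↥(SU n F 2) := by
  intro hc
  have h1 := congrArg mt (Subgroup.mem_center_iff.1 hc (su φ D hD))
  rw [map_mul, map_mul, mt_su, mt_su, ← map_mul, ← map_mul] at h1
  refine h (Matrix.ext fun i j => hφ ?_)
  exact congrFun (congrFun h1 i) j

end

/-- commuting matrices of orders 5 and 3, not central -/
theorem psu_fifteen_of {n : ℕ} {S : Type*} [Group S] {F : Type} [Field F] [Fintype F] (hF : Fintype.card F = 2 ^ 2)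
    (e : S ≃* PSU n F 2) {X T D : Matrix (Fin n) (Fin n) R4} (hX : Un X) (hT : Un T) (hD : Un D)
    (h5 : X * X * X * X * X = 1) (h3 : T * T * T = 1) (hc : X * T = T * X) (hDX : D * X ≠ X * D) (hDT : D * T ≠ T * D) :
    ∃ s : S, orderOf s = 15 := by
  haveI := charP hF
  haveI : Fact (Nat.Prime 5) := ⟨by norm_num⟩
  haveI : Fact (Nat.Prime 3) := ⟨by norm_num⟩
  obtain ⟨φ, hφ⟩ := exists_hom hF
  let π : ↥(SU n F 2) →* S := e.symm.toMonoidHom.comp (QuotientGroup.mk' (Subgroup.center ↥(SU n F 2)))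
  have hπ : ∀ a, π a = 1 → a ∈ Subgroup.center ↥(SU n F 2) := fun a ha =>
    (QuotientGroup.eq_one_iff a).1 (e.symm.injective (ha.trans (map_one e.symm).symm))
  have o5 : orderOf (π (su φ X hX)) = 5 := by
    refine orderOf_eq_prime ?_ fun h => not_central φ hφ hX hD hDX (hπ _ h)
    rw [← map_pow]
    refine (congrArg π (mt_inj ?_)).trans (map_one π)
    rw [map_pow, mt_su, map_one, ← map_pow, show X ^ 5 = 1 by
      rw [← h5]; simp only [pow_succ, pow_zero, one_mul], map_one]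
  have o3 : orderOf (π (su φ T hT)) = 3 := by
    refine orderOf_eq_prime ?_ fun h => not_central φ hφ hT hD hDT (hπ _ h)
    rw [← map_pow]
    refine (congrArg π (mt_inj ?_)).trans (map_one π)
    rw [map_pow, mt_su, map_one, ← map_pow, show T ^ 3 = 1 by
      rw [← h3]; simp only [pow_succ, pow_zero, one_mul], map_one]
  have hcm : Commute (π (su φ X hX)) (π (su φ T hT)) := by
    show _ * _ = _ * _
    rw [← map_mul, ← map_mul]
    refine congrArg π (mt_inj ?_)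
    rw [map_mul, map_mul, mt_su, mt_su, ← map_mul, ← map_mul, hc]
  refine ⟨π (su φ X hX) * π (su φ T hT), ?_⟩
  rw [hcm.orderOf_mul_eq_mul_orderOf_of_coprime (by rw [o5, o3]; norm_num), o5, o3]

theorem sq_R4 : ∀ a b : ZMod 2, (⟨a, b⟩ : R4) * ⟨a, b⟩ = 1 → (⟨a, b⟩ : R4) = 1 := by decide

theorem det_inv {n : ℕ} {P : Matrix (Fin n) (Fin n) R4} (h : P * P = 1) : P.det = 1 := by
  have h1 := congrArg Matrix.det h
  rw [Matrix.det_mul, Matrix.det_one] at h1
  exact sq_R4 _ _ h1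

theorem det_real {n : ℕ} {A : Matrix (Fin n) (Fin n) R4} (P : Matrix (Fin n) (Fin n) R4) (h : P * P = 1)
    (h' : A * P * (A * P) = 1) : A.det = 1 := by
  have h1 := det_inv h'
  rwa [Matrix.det_mul, det_inv h, mul_one] at h1

/-- `ω` -/
def om : R4 := ⟨0, 1⟩
/-- `ω²` -/
def ob : R4 := ⟨1, 1⟩

/-- a cycle of length 5 -/
def mX6 : Matrix (Fin 6) (Fin 6) R4 :=
  !![0,1,0,0,0,0; 0,0,1,0,0,0; 0,0,0,1,0,0; 0,0,0,0,1,0; 1,0,0,0,0,0; 0,0,0,0,0,1]

/-- an involution inverting it -/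
def mP6 : Matrix (Fin 6) (Fin 6) R4 :=
  !![0,0,0,0,1,0; 0,0,0,1,0,0; 0,0,1,0,0,0; 0,1,0,0,0,0; 1,0,0,0,0,0; 0,0,0,0,0,1]

/-- an element of order 3 -/
def mT6 : Matrix (Fin 6) (Fin 6) R4 :=
  !![om,ob,ob,ob,ob,0; ob,om,ob,ob,ob,0; ob,ob,om,ob,ob,0; ob,ob,ob,om,ob,0; ob,ob,ob,ob,om,0; 0,0,0,0,0,ob]

/-- an involution inverting it -/
def mQ6 : Matrix (Fin 6) (Fin 6) R4 :=
  !![0,1,1,1,1,1; 1,0,1,1,1,1; 1,1,0,1,1,1; 1,1,1,0,1,1; 1,1,1,1,0,1; 1,1,1,1,1,0]

/-- a monomial involution -/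
def mD6 : Matrix (Fin 6) (Fin 6) R4 :=
  !![0,om,0,0,0,0; ob,0,0,0,0,0; 0,0,1,0,0,0; 0,0,0,1,0,0; 0,0,0,0,1,0; 0,0,0,0,0,1]

theorem un_X6 : Un mX6 := ⟨by decide +kernel, det_real mP6 (by decide +kernel) (by decide +kernel)⟩

theorem un_T6 : Un mT6 := ⟨by decide +kernel, det_real mQ6 (by decide +kernel) (by decide +kernel)⟩

theorem un_D6 : Un mD6 := ⟨by decide +kernel, det_inv (by decide +kernel)⟩

/-- **`U₆(2)` has an element of order 15.** -/
theorem psu_six {S : Type*} [Group S] {F : Type} [Field F] [Fintype F] (hF : Fintype.card F = 2 ^ 2)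
    (e : S ≃* PSU 6 F 2) : ∃ s : S, orderOf s = 15 :=
  psu_fifteen_of hF e un_X6 un_T6 un_D6 (by decide +kernel) (by decide +kernel) (by decide +kernel) (by decide +kernel)
    (by decide +kernel)

/-- a cycle of length 5 -/
def mX5 : Matrix (Fin 5) (Fin 5) R4 :=
  !![0,1,0,0,0; 0,0,1,0,0; 0,0,0,1,0; 0,0,0,0,1; 1,0,0,0,0]

/-- an involution inverting it -/
def mP5 : Matrix (Fin 5) (Fin 5) R4 :=
  !![0,0,0,0,1; 0,0,0,1,0; 0,0,1,0,0; 0,1,0,0,0; 1,0,0,0,0]

/-- an element of order 3 -/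
def mT5 : Matrix (Fin 5) (Fin 5) R4 :=
  !![ob,1,1,1,1; 1,ob,1,1,1; 1,1,ob,1,1; 1,1,1,ob,1; 1,1,1,1,ob]

/-- a monomial involution -/
def mD5 : Matrix (Fin 5) (Fin 5) R4 :=
  !![0,om,0,0,0; ob,0,0,0,0; 0,0,1,0,0; 0,0,0,1,0; 0,0,0,0,1]

theorem un_X5 : Un mX5 := ⟨by decide +kernel, det_real mP5 (by decide +kernel) (by decide +kernel)⟩

theorem un_T5 : Un mT5 := ⟨by decide +kernel, by decide +kernel⟩

theorem un_D5 : Un mD5 := ⟨by decide +kernel, det_inv (by decide +kernel)⟩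

/-- **`U₅(2)` has an element of order 15.** -/
theorem psu_five {S : Type*} [Group S] {F : Type} [Field F] [Fintype F] (hF : Fintype.card F = 2 ^ 2)
    (e : S ≃* PSU 5 F 2) : ∃ s : S, orderOf s = 15 :=
  psu_fifteen_of hF e un_X5 un_T5 un_D5 (by decide +kernel) (by decide +kernel) (by decide +kernel) (by decide +kernel)
    (by decide +kernel)

end Cfsg.Agent.BX.M11
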